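import Groth.Agent.BlowUpCoh.EulerPush
import Groth.Agent.BlowUpPlane.PointEuler
import Groth.Agent.CurveRR24.Point
import Groth.Agent.Resolve13.LocalGen
import Groth.Agent.Surf15.Pairing
import Groth.Agent.GrpdField.Equidim
import Groth.Agent.ProjLib.BlowUpBasics
import Groth.Agent.Inters29.Class
import Groth.Agent.AmpleLib.Relative

/-!
# Blow-up of a regular closed point of a proper surface: Euler characteristics and intersection numbers
-/

set_option autoImplicit false
set_option backward.isDefEq.respectTransparency.types false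
set_option linter.style.haveILetI false

universe u

open CategoryTheory CategoryTheory.Limits AlgebraicGeometry TopologicalSpace Opposite
open Groth.Agent.Coherent Groth.Agent.PicLib Groth.Agent.AmpleLib Groth.Agent.EulerLib Groth.Agent.CurveRR24
open Groth.Agent.CAlgH.KoszulRegular

namespace Groth.Agent.PointBlow14

/-- The ideal of a regular closed point of dimension two has a Koszul basis of length two. -/
theorem koszulBasis_point {X : Scheme.{u}} [IsLocallyNoetherian X] (x : X) (hx : IsClosed ({x} : Set X))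
    [IsRegularLocalRing (X.presheaf.stalk x)] (hd : ringKrullDim (X.presheaf.stalk x) = 2) :
    BlowUpCoh.KoszulBasis (Scheme.IdealSheafData.vanishingIdeal ⟨{x}, hx⟩) 1 := by
  refine BlowUpCoh.koszulBasis_of_local fun y hy => ?_
  obtain rfl : y = x :=
    (Scheme.IdealSheafData.coe_support_vanishingIdeal (Z := (⟨{x}, hx⟩ : Closeds _))).le hy
  obtain ⟨U, hyU, g, hI, hg, -⟩ := Resolve13.exists_local_gen y hx hd
  exact ⟨U, 1, g, hyU, le_rfl, hI, hg⟩

/-- For a maximal ideal generated by two Koszul regular elements `dim A / m^2 = 3 dim A / m`. -/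
theorem finrank_quot_sq {k A : Type u} [Field k] [CommRing A] [Algebra k A] (g : Fin 2 → A)
    (hg : CAlgX.IsH1Regular g) [(Ideal.span (Set.range g)).IsMaximal]
    [Module.Finite k (A ⧸ Ideal.span (Set.range g))] :
    Module.finrank k (A ⧸ (Ideal.span (Set.range g)) ^ 2) =
      3 * Module.finrank k (A ⧸ Ideal.span (Set.range g)) := by
  set m := Ideal.span (Set.range g) with hm
  have hmem : ∀ i, g i ∈ m := fun i => Ideal.subset_span ⟨i, rfl⟩
  have hle : m ^ 2 ≤ m := Ideal.pow_le_self two_ne_zero
  let f : (A ⧸ m ^ 2) →ₗ[k] A ⧸ m := (Ideal.Quotient.factorₐ k hle).toLinearMap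
  let φ : ((A ⧸ m) × (A ⧸ m)) →ₗ[A] A ⧸ m ^ 2 :=
    LinearMap.coprod
      (Submodule.liftQ m (g 0 • (Ideal.Quotient.mkₐ A (m ^ 2)).toLinearMap) fun a ha => by
        show g 0 • Ideal.Quotient.mk (m ^ 2) a = 0
        rw [← Ideal.Quotient.mk_eq_mk, ← Submodule.Quotient.mk_smul, Submodule.Quotient.mk_eq_zero, smul_eq_mul, pow_two]
        exact Ideal.mul_mem_mul (hmem 0) ha)
      (Submodule.liftQ m (g 1 • (Ideal.Quotient.mkₐ A (m ^ 2)).toLinearMap) fun a ha => by
        show g 1 • Ideal.Quotient.mk (m ^ 2) a = 0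
        rw [← Ideal.Quotient.mk_eq_mk, ← Submodule.Quotient.mk_smul, Submodule.Quotient.mk_eq_zero, smul_eq_mul, pow_two]
        exact Ideal.mul_mem_mul (hmem 1) ha)
  have hφ : ∀ a b : A, φ (Ideal.Quotient.mk m a, Ideal.Quotient.mk m b) = Ideal.Quotient.mk (m ^ 2) (g 0 * a + g 1 * b) :=
    fun a b => rfl
  have hinj : Function.Injective φ := by
    refine (injective_iff_map_eq_zero _).2 ?_
    rintro ⟨p, q⟩ h
    obtain ⟨a, rfl⟩ := Ideal.Quotient.mk_surjective p
    obtain ⟨b, rfl⟩ := Ideal.Quotient.mk_surjective q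
    rw [hφ, Ideal.Quotient.eq_zero_iff_mem, pow_two] at h
    have h' : g 0 * a + g 1 * b ∈ (m * m : Ideal A) := h
    obtain ⟨c, hc, d, hd, e⟩ : ∃ c ∈ m, ∃ d ∈ m, g 0 * c + g 1 * d = g 0 * a + g 1 * b := by
      refine Submodule.mul_induction_on (M := m) (N := m) h' (fun r hr s hs => ?_) ?_
      · rw [hm, Ideal.mem_span_range_iff_exists_fun] at hr
        obtain ⟨v, rfl⟩ := hr
        exact ⟨v 0 * s, Ideal.mul_mem_left _ _ hs, v 1 * s, Ideal.mul_mem_left _ _ hs, by
          rw [Fin.sum_univ_two]; ring⟩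
      · rintro r s ⟨c, hc, d, hd, e⟩ ⟨c', hc', d', hd', e'⟩
        exact ⟨c + c', m.add_mem hc hc', d + d', m.add_mem hd hd', by rw [← e, ← e']; ring⟩
    have hrel := hg ![a - c, b - d] (by
      rw [Fin.sum_univ_two]
      show (a - c) * g 0 + (b - d) * g 1 = 0
      linear_combination e.symm)
    have hall : ∀ v ∈ Submodule.span A {v : Fin 2 → A | ∃ i j, v = Pi.single i (g j) - Pi.single j (g i)},
        ∀ l, v l ∈ m := by
      intro v hv
      induction hv using Submodule.span_induction with
      | mem v hv =>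
        obtain ⟨i, j, rfl⟩ := hv
        intro l
        refine m.sub_mem ?_ ?_
        · rw [Pi.single_apply]; split_ifs
          · exact hmem j
          · exact m.zero_mem
        · rw [Pi.single_apply]; split_ifs
          · exact hmem i
          · exact m.zero_mem
      | zero => exact fun l => m.zero_mem
      | add v w _ _ hv hw => exact fun l => m.add_mem (hv l) (hw l)
      | smul r v _ hv => exact fun l => m.mul_mem_left r (hv l)
    refine Prod.ext ?_ ?_
    · refine Ideal.Quotient.eq_zero_iff_mem.2 ?_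
      simpa using m.add_mem (hall _ hrel 0) hc
    · refine Ideal.Quotient.eq_zero_iff_mem.2 ?_
      simpa using m.add_mem (hall _ hrel 1) hd
  have hrange : LinearMap.range (φ.restrictScalars k) = LinearMap.ker f := by
    refine le_antisymm ?_ ?_
    · rintro _ ⟨⟨p, q⟩, rfl⟩
      obtain ⟨a, rfl⟩ := Ideal.Quotient.mk_surjective p
      obtain ⟨b, rfl⟩ := Ideal.Quotient.mk_surjective q
      show Ideal.Quotient.mk m (g 0 * a + g 1 * b) = 0
      exact Ideal.Quotient.eq_zero_iff_mem.2 (m.add_mem (m.mul_mem_right _ (hmem 0)) (m.mul_mem_right _ (hmem 1)))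
    · intro z hz
      obtain ⟨z, rfl⟩ := Ideal.Quotient.mk_surjective z
      have hz' : z ∈ m := Ideal.Quotient.eq_zero_iff_mem.1 hz
      rw [hm, Ideal.mem_span_range_iff_exists_fun] at hz'
      obtain ⟨v, rfl⟩ := hz'
      refine ⟨(Ideal.Quotient.mk m (v 0), Ideal.Quotient.mk m (v 1)), ?_⟩
      show φ _ = _
      rw [hφ, Fin.sum_univ_two]
      congr 1
      ring
  haveI : Module.Finite k (LinearMap.ker f) := by rw [← hrange]; infer_instance
  haveI : Module.Finite k ((A ⧸ m ^ 2) ⧸ LinearMap.ker f) :=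
    Module.Finite.equiv (f.quotKerEquivOfSurjective (Ideal.Quotient.factor_surjective hle)).symm
  haveI : Module.Finite k (A ⧸ m ^ 2) := Module.Finite.of_submodule_quotient (LinearMap.ker f)
  have h := LinearMap.finrank_range_add_finrank_ker f
  rw [LinearMap.range_eq_top.2 (Ideal.Quotient.factor_surjective hle), finrank_top, ← hrange,
    LinearMap.finrank_range_of_inj (f := φ.restrictScalars k) hinj, Module.finrank_prod] at h
  omega


variable (k : Type u) [Field k] {X : Scheme.{u}} [X.Over (Spec (CommRingCat.of k))]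
  [IsProper (X ↘ Spec (CommRingCat.of k))]

include k in
/-- `dim X = 2` at closed points when every component has dimension two. -/
theorem dim_stalk (hdim : ∀ Z ∈ irreducibleComponents (X : Type u), topologicalKrullDim Z = 2)
    (x : X) (hx : IsClosed ({x} : Set X)) :
    ringKrullDim (X.presheaf.stalk x) = 2 ∧ topologicalKrullDim X ≤ ((2 : ℕ) : WithBot ℕ∞) := by
  let p := X ↘ Spec (CommRingCat.of k)
  have hpt : ∀ y : X, (∀ z, z ⤳ y → y = z) → (DimLib.ptDim p y : WithBot ℕ∞) = 2 := fun y hy =>
    (DimLib.topologicalKrullDim_eq_ptDim_of_isGenericPoint p (Z := closure ({y} : Set X)) rfl).symm.trans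
      (hdim _ (DimLib.closure_mem_components hy))
  have hX : topologicalKrullDim X = 2 := by
    refine le_antisymm (DimLib.topologicalKrullDim_le_of_forall_maximal p _ fun η hη => (hpt η hη).le) ?_
    obtain ⟨η, -, hη⟩ := DimLib.exists_maximal_specializes x
    rw [← hpt η hη]
    exact DimLib.ptDim_le_topologicalKrullDim p η
  exact ⟨(GrpdField.ringKrullDim_stalk_of_equidim p (fun y hy => (hpt y hy).trans hX.symm) x hx).trans hX, hX.le⟩

/-- `χ(O/I) = [κ:k]`, `χ(O/I²) = 3[κ:k]`. -/
theorem euler_point_quot (x : X) (hx : IsClosed ({x} : Set X))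
    [IsRegularLocalRing (X.presheaf.stalk x)] (hd : ringKrullDim (X.presheaf.stalk x) = 2) :
    Curv2.euler k X (ClSub.quotMod (Scheme.IdealSheafData.vanishingIdeal ⟨{x}, hx⟩)) =
        (letI := Curv2.resAlgebra k X x; (Module.finrank k (X.residueField x) : ℤ)) ∧
      Curv2.euler k X (ClSub.quotMod (Scheme.IdealSheafData.vanishingIdeal ⟨{x}, hx⟩ ^ 2)) =
        3 * (letI := Curv2.resAlgebra k X x; (Module.finrank k (X.residueField x) : ℤ)) := by
  haveI := isLocallyNoetherian_of_proper k (X := X)
  have h1 : Curv2.euler k X (ClSub.quotMod (Scheme.IdealSheafData.vanishingIdeal ⟨{x}, hx⟩)) =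
      (letI := Curv2.resAlgebra k X x; (Module.finrank k (X.residueField x) : ℤ)) :=
    (euler_congr k X (tensorComm (ClSub.quotMod (ptIdeal x hx)) (Coh.structureModule X) ≪≫
      unitTensorIso (ClSub.quotMod (ptIdeal x hx))).symm).trans
      (euler_twist_ptQuot hx k isInvertible_structureModule)
  refine ⟨h1, ?_⟩
  obtain ⟨U, hxU, g, hI, hg, hmax⟩ := Resolve13.exists_local_gen x hx hd
  set I := Scheme.IdealSheafData.vanishingIdeal (⟨{x}, hx⟩ : Closeds X)
  have hsupp : (I.support : Set X) = {x} := Scheme.IdealSheafData.coe_support_vanishingIdeal _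
  letI : Algebra k Γ(X, U.1) :=
    ((X.presheaf.map (homOfLE (le_top : U.1 ≤ ⊤)).op).hom.comp (baseHom k X)).toAlgebra
  have hsub : (I.support : Set X) ⊆ U.1 := hsupp.le.trans (Set.singleton_subset_iff.2 hxU)
  have hsupp2 : ((I ^ 2).support : Set X) ⊆ U.1 := by
    rw [Scheme.IdealSheafData.support_pow_succ]; exact hsub
  have e1 := BlowUpPlane.euler_quotMod_eq_finrank k I U hsub (RingEquiv.refl _) (fun c => rfl)
    (Ideal.span (Set.range g)) (by rw [hI]; exact (Ideal.map_id _).symm)
  have e2 := BlowUpPlane.euler_quotMod_eq_finrank k (I ^ 2) U hsupp2 (RingEquiv.refl _) (fun c => rfl)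
    (Ideal.span (Set.range g) ^ 2) (by
      rw [Scheme.IdealSheafData.ideal_pow, Pi.pow_apply, hI]; exact (Ideal.map_id _).symm)
  haveI := hmax
  haveI : Module.Finite k (Γ(X, U.1) ⧸ Ideal.span (Set.range g)) := by
    letI := Curv2.resAlgebra k X x
    haveI := finite_resField hx k
    refine Module.finite_of_finrank_pos ?_
    have hpos : 0 < Module.finrank k (X.residueField x) := Module.finrank_pos
    have := h1.symm.trans e1
    omega
  rw [← h1, e1, e2, finrank_quot_sq g (CAlgH.KoszulH1.h1_of_kreg hg)]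
  push_cast
  ring

variable {X' : Scheme.{u}} [X'.Over (Spec (CommRingCat.of k))] {π : X' ⟶ X}
  (hk : π ≫ (X ↘ Spec (CommRingCat.of k)) = X' ↘ Spec (CommRingCat.of k))

include hk in
/-- A blow-up does not raise the dimension. -/
theorem dim_le (hdim : topologicalKrullDim X ≤ ((2 : ℕ) : WithBot ℕ∞)) {I : X.IdealSheafData}
    (hb : BlowUp.IsBlowUp π I) {c : ℕ} (hI : BlowUpCoh.KoszulBasis I c) :
    topologicalKrullDim X' ≤ ((2 : ℕ) : WithBot ℕ∞) := by
  haveI := isLocallyNoetherian_of_proper k (X := X)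
  haveI := BlowUpLib.isProper_of_isBlowUp hb (BlowUpCoh.isFiniteType_of_koszulBasis hI)
  let U : X.Opens := ⟨(I.support : Set X)ᶜ, I.support.isClosed.isOpen_compl⟩
  haveI : IsIso (π ∣_ U) := ProjLib.isIso_morphismRestrict hb U disjoint_compl_right
  haveI : LocallyOfFiniteType (π ≫ (X ↘ Spec (CommRingCat.of k))) := inferInstance
  refine DimLib.topologicalKrullDim_le_of_forall_maximal (π ≫ (X ↘ Spec (CommRingCat.of k))) _ fun η hη => ?_
  by_cases hmem : π η ∈ U
  · let z : (π ⁻¹ᵁ U).toScheme := ⟨η, hmem⟩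
    have e : DimLib.ptDim (π ≫ (X ↘ Spec (CommRingCat.of k))) η =
        DimLib.ptDim (X ↘ Spec (CommRingCat.of k)) (π η) := by
      have h1 := DimLib.ptDim_comp_preimmersion (π ≫ (X ↘ Spec (CommRingCat.of k))) (π ⁻¹ᵁ U).ι z
      have h2 := DimLib.ptDim_comp_preimmersion (X ↘ Spec (CommRingCat.of k)) ((π ∣_ U) ≫ U.ι) z
      rw [morphismRestrict_ι, Category.assoc] at h2
      exact h1.symm.trans h2
    rw [e]
    exact (DimLib.ptDim_le_topologicalKrullDim _ (π η)).trans hdim
  · exfalso
    let W : X'.Opens := ⟨((I.comap π).support : Set X')ᶜ, (I.comap π).support.isClosed.isOpen_compl⟩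
    haveI : IsLocallyNoetherian X' := LocallyOfFiniteType.isLocallyNoetherian (π ≫ (X ↘ Spec (CommRingCat.of k)))
    haveI : QuasiCompact W.ι := inferInstance
    haveI := ProjLib.isSchemeTheoreticallyDominant_compl_effCartier hb.1 W subset_rfl
    have hdense : Dense (W : Set X') := by
      have h := W.ι.denseRange
      rwa [DenseRange, Scheme.Opens.range_ι] at h
    obtain ⟨N, hN, hηN, hN'⟩ := GrpdField.exists_nhd_of_maximal hη
    obtain ⟨y, hyN, hyW⟩ := hdense.inter_open_nonempty N hN ⟨η, hηN⟩
    obtain ⟨z, hzy, hz⟩ := DimLib.exists_maximal_specializes y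
    obtain rfl := hN' y hyN z hzy hz
    have hzW : z ∈ W := hzy.mem_open W.isOpen hyW
    have hzW' : z ∉ ((I.comap π).support : Set X') := hzW
    rw [Scheme.IdealSheafData.support_comap] at hzW'
    exact hmem hzW'



include hk in
/-- Euler characteristics on the blow-up of a regular closed point. -/
theorem euler_rules (hdim : topologicalKrullDim X ≤ ((2 : ℕ) : WithBot ℕ∞)) (x : X)
    (hx : IsClosed ({x} : Set X)) [IsRegularLocalRing (X.presheaf.stalk x)]
    (hd : ringKrullDim (X.presheaf.stalk x) = 2)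
    (hπ : BlowUp.IsBlowUp π (Scheme.IdealSheafData.vanishingIdeal ⟨{x}, hx⟩)) :
    (∀ {N : X.Modules}, PicF.IsInvertible N →
      Curv2.euler k X' ((Scheme.Modules.pullback π).obj N) = Curv2.euler k X N) ∧
    Curv2.euler k X' (ClSub.idealMod ((Scheme.IdealSheafData.vanishingIdeal ⟨{x}, hx⟩).comap π)) =
      Curv2.euler k X' (Coh.structureModule X') -
        (letI := Curv2.resAlgebra k X x; (Module.finrank k (X.residueField x) : ℤ)) := by
  haveI := isLocallyNoetherian_of_proper k (X := X)
  haveI := isNoetherian_of_proper k (X := X)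
  set I := Scheme.IdealSheafData.vanishingIdeal (⟨{x}, hx⟩ : Closeds X) with hIdef
  have hIB : BlowUpCoh.KoszulBasis I 1 := koszulBasis_point x hx hd
  haveI := BlowUpLib.isProper_of_isBlowUp hπ (BlowUpCoh.isFiniteType_of_koszulBasis hIB)
  haveI : IsProper (X' ↘ Spec (CommRingCat.of k)) := by rw [← hk]; infer_instance
  have hdim' := dim_le k hk hdim hπ hIB
  have hJ : PicF.IsInvertible (ClSub.idealMod (I.comap π)) := AbCubeLib.isInvertible_idealMod _ hπ.1
  have hsupp : (I.support : Set X) = {x} := Scheme.IdealSheafData.coe_support_vanishingIdeal _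
  have key : ∀ {N : X.Modules}, PicF.IsInvertible N → ∀ m : ℕ,
      Curv2.euler k X' (CohB1.tensorMod ((Scheme.Modules.pullback π).obj N) (ClSub.idealMod ((I.comap π) ^ m))) =
        Curv2.euler k X N - Curv2.euler k X (ClSub.quotMod (I ^ m)) := by
    intro N hN m
    rw [BlowUpCoh.euler_twist_idealPow k hπ hIB hk hN m,
      BlowUpPlane.euler_twist_idealMod k (I ^ m) (x := x) ?_ hN]
    cases m with
    | zero => intro y hy; simp at hy
    | succ m => rw [Scheme.IdealSheafData.support_pow_succ, hsupp]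
  have hzero : Curv2.euler k X (ClSub.quotMod (I ^ 0)) = 0 := by
    rw [pow_zero, Scheme.IdealSheafData.one_eq_top]
    have hs : ((⊤ : X.IdealSheafData).support : Set X) = ∅ := by simp
    have hz : IsZero (ClSub.quotMod (⊤ : X.IdealSheafData)) := isZero_of_support_eq_empty
      (Set.eq_empty_of_subset_empty (hs ▸ support_quotMod_subset (⊤ : X.IdealSheafData)))
    rw [euler_eq_sum k X _ 0 fun q _ => subsingleton_HH_of_isZero hz q]
    haveI := subsingleton_HH_of_isZero hz 0
    simp [Module.finrank_zero_of_subsingleton]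
  have htop : ∀ {N : X.Modules}, PicF.IsInvertible N →
      Curv2.euler k X' ((Scheme.Modules.pullback π).obj N) = Curv2.euler k X N := by
    intro N hN
    have h := key hN 0
    rw [hzero, sub_zero, pow_zero, Scheme.IdealSheafData.one_eq_top] at h
    rw [← h]
    obtain ⟨e⟩ := Inters29.nonempty_iso_of_principal (⊤ : X'.IdealSheafData) 1 fun U => by
      rw [show PicLib.res (le_top : U.1 ≤ ⊤) (1 : Γ(X', ⊤)) = 1 from map_one _]
      exact ⟨by simp, one_mem _⟩
    exact euler_congr k X' ((unitTensorIso _).symm ≪≫ tensorComm _ _ ≪≫ Coherent.tensorIso (Iso.refl _) e.symm)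
  obtain ⟨d1, d2⟩ := euler_point_quot k x hx hd
  rw [← hIdef] at d1 d2
  obtain ⟨eO⟩ := AmpleLib.exists_pullStructureIso (X := X) π
  have hO : Curv2.euler k X' (Coh.structureModule X') = Curv2.euler k X (Coh.structureModule X) :=
    (euler_congr k X' eO.symm).trans (htop isInvertible_structureModule)
  have hE : Curv2.euler k X' (ClSub.idealMod (I.comap π)) =
      Curv2.euler k X (Coh.structureModule X) - Curv2.euler k X (ClSub.quotMod I) := by
    have h := key isInvertible_structureModule 1
    rw [pow_one, pow_one] at h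
    rw [← h]
    exact euler_congr k X' ((unitTensorIso _).symm ≪≫ Coherent.tensorIso eO.symm (Iso.refl _))
  exact ⟨htop, by rw [hE, hO, d1]⟩

include hk in
/-- Intersection numbers on the blow-up of a regular closed point. -/
theorem intNum_rules (hdim : topologicalKrullDim X ≤ ((2 : ℕ) : WithBot ℕ∞)) (x : X)
    (hx : IsClosed ({x} : Set X)) [IsRegularLocalRing (X.presheaf.stalk x)]
    (hd : ringKrullDim (X.presheaf.stalk x) = 2)
    (hπ : BlowUp.IsBlowUp π (Scheme.IdealSheafData.vanishingIdeal ⟨{x}, hx⟩))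
    {L M : X.Modules} (hL : PicF.IsInvertible L) (hM : PicF.IsInvertible M) :
    FGA.intNum k X' 2 ![(Scheme.Modules.pullback π).obj L, (Scheme.Modules.pullback π).obj M]
        (Coh.structureModule X') = FGA.intNum k X 2 ![L, M] (Coh.structureModule X) ∧
      FGA.intNum k X' 2 ![(Scheme.Modules.pullback π).obj L,
          ClSub.idealMod (BlowUp.exceptional π (Scheme.IdealSheafData.vanishingIdeal ⟨{x}, hx⟩))]
          (Coh.structureModule X') = 0 ∧
      FGA.intNum k X' 2 ![ClSub.idealMod (BlowUp.exceptional π (Scheme.IdealSheafData.vanishingIdeal ⟨{x}, hx⟩)),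
          ClSub.idealMod (BlowUp.exceptional π (Scheme.IdealSheafData.vanishingIdeal ⟨{x}, hx⟩))]
          (Coh.structureModule X') =
        -(letI := Curv2.resAlgebra k X x; (Module.finrank k (X.residueField x) : ℤ)) := by
  haveI := isLocallyNoetherian_of_proper k (X := X)
  haveI := isNoetherian_of_proper k (X := X)
  set I := Scheme.IdealSheafData.vanishingIdeal (⟨{x}, hx⟩ : Closeds X) with hIdef
  have hIB : BlowUpCoh.KoszulBasis I 1 := koszulBasis_point x hx hd
  haveI := BlowUpLib.isProper_of_isBlowUp hπ (BlowUpCoh.isFiniteType_of_koszulBasis hIB)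
  haveI : IsProper (X' ↘ Spec (CommRingCat.of k)) := by rw [← hk]; infer_instance
  have hdim' := dim_le k hk hdim hπ hIB
  have hJ : PicF.IsInvertible (ClSub.idealMod (I.comap π)) := AbCubeLib.isInvertible_idealMod _ hπ.1
  have hsupp : (I.support : Set X) = {x} := Scheme.IdealSheafData.coe_support_vanishingIdeal _
  have key : ∀ {N : X.Modules}, PicF.IsInvertible N → ∀ m : ℕ,
      Curv2.euler k X' (CohB1.tensorMod ((Scheme.Modules.pullback π).obj N) (ClSub.idealMod ((I.comap π) ^ m))) =
        Curv2.euler k X N - Curv2.euler k X (ClSub.quotMod (I ^ m)) := by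
    intro N hN m
    rw [BlowUpCoh.euler_twist_idealPow k hπ hIB hk hN m,
      BlowUpPlane.euler_twist_idealMod k (I ^ m) (x := x) ?_ hN]
    cases m with
    | zero => intro y hy; simp at hy
    | succ m => rw [Scheme.IdealSheafData.support_pow_succ, hsupp]
  have hzero : Curv2.euler k X (ClSub.quotMod (I ^ 0)) = 0 := by
    rw [pow_zero, Scheme.IdealSheafData.one_eq_top]
    have hs : ((⊤ : X.IdealSheafData).support : Set X) = ∅ := by simp
    have hz : IsZero (ClSub.quotMod (⊤ : X.IdealSheafData)) := isZero_of_support_eq_empty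
      (Set.eq_empty_of_subset_empty (hs ▸ support_quotMod_subset (⊤ : X.IdealSheafData)))
    rw [euler_eq_sum k X _ 0 fun q _ => subsingleton_HH_of_isZero hz q]
    haveI := subsingleton_HH_of_isZero hz 0
    simp [Module.finrank_zero_of_subsingleton]
  have htop : ∀ {N : X.Modules}, PicF.IsInvertible N →
      Curv2.euler k X' ((Scheme.Modules.pullback π).obj N) = Curv2.euler k X N := by
    intro N hN
    have h := key hN 0
    rw [hzero, sub_zero, pow_zero, Scheme.IdealSheafData.one_eq_top] at h
    rw [← h]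
    obtain ⟨e⟩ := Inters29.nonempty_iso_of_principal (⊤ : X'.IdealSheafData) 1 fun U => by
      rw [show PicLib.res (le_top : U.1 ≤ ⊤) (1 : Γ(X', ⊤)) = 1 from map_one _]
      exact ⟨by simp, one_mem _⟩
    exact euler_congr k X' ((unitTensorIso _).symm ≪≫ tensorComm _ _ ≪≫ Coherent.tensorIso (Iso.refl _) e.symm)
  obtain ⟨d1, d2⟩ := euler_point_quot k x hx hd
  rw [← hIdef] at d1 d2
  obtain ⟨eO⟩ := AmpleLib.exists_pullStructureIso (X := X) π
  have hO : Curv2.euler k X' (Coh.structureModule X') = Curv2.euler k X (Coh.structureModule X) :=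
    (euler_congr k X' eO.symm).trans (htop isInvertible_structureModule)
  have hE : Curv2.euler k X' (ClSub.idealMod (I.comap π)) =
      Curv2.euler k X (Coh.structureModule X) - Curv2.euler k X (ClSub.quotMod I) := by
    have h := key isInvertible_structureModule 1
    rw [pow_one, pow_one] at h
    rw [← h]
    exact euler_congr k X' ((unitTensorIso _).symm ≪≫ Coherent.tensorIso eO.symm (Iso.refl _))
  have form : ∀ {Y : Scheme.{u}} [Y.Over (Spec (CommRingCat.of k))] [IsProper (Y ↘ Spec (CommRingCat.of k))],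
      topologicalKrullDim Y ≤ ((2 : ℕ) : WithBot ℕ∞) → ∀ {A B : Y.Modules}, PicF.IsInvertible A → PicF.IsInvertible B →
      FGA.intNum k Y 2 ![A, B] (Coh.structureModule Y) = Curv2.euler k Y (CohB1.tensorMod A B) -
        Curv2.euler k Y A - Curv2.euler k Y B + Curv2.euler k Y (Coh.structureModule Y) := by
    intro Y _ _ hY A B hA hB
    rw [Surf15.intNum_eq_B k hY hA hB, Surf15.B, InvCl.mk_mul, chiCl_mk, chiCl_mk, chiCl_mk, chiCl_one,
      euler_congr k Y (unitTensorIso (CohB1.tensorMod A B)), euler_congr k Y (unitTensorIso A),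
      euler_congr k Y (unitTensorIso B)]
  have hLM : PicF.IsInvertible (CohB1.tensorMod L M) := isInvertible_tensorMod hL hM
  refine ⟨?_, ?_, ?_⟩
  · rw [form hdim' (PicLoc.isInvertible_pullback π hL) (PicLoc.isInvertible_pullback π hM), form hdim hL hM,
      htop hL, htop hM, hO, euler_congr k X' (AmpleLib.exists_pullTensorIso π hL hM).some.symm, htop hLM]
  · rw [form hdim' (PicLoc.isInvertible_pullback π hL) hJ, htop hL, hE, hO]
    have h := key hL 1
    rw [pow_one, pow_one] at h
    rw [h]
    ring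
  · rw [form hdim' hJ hJ, hE, hO]
    obtain ⟨e⟩ := Inters29.nonempty_mul_iso _ _ hπ.1 hπ.1
    have h := key isInvertible_structureModule 2
    rw [euler_congr k X' (Coherent.tensorIso eO (Iso.refl _) ≪≫ unitTensorIso _)] at h
    rw [euler_congr k X' (e ≪≫ eqToIso (congrArg ClSub.idealMod (pow_two (I.comap π)).symm)), h, d1, d2]
    ring


end Groth.Agent.PointBlow14
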