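import Groth.Agent.ExcC13.Bundle
import Groth.Agent.Models7.ContractP1

/-! Contraction of a projective line of negative self-intersection on a projective scheme, fibres of any dimension. -/

set_option autoImplicit false
set_option linter.style.haveILetI false
set_option backward.isDefEq.respectTransparency.types false
set_option maxHeartbeats 2000000

universe u

open CategoryTheory CategoryTheory.Limits AlgebraicGeometry TopologicalSpace Opposite
open Groth.Agent.Coherent Groth.Agent.PicLib Groth.Agent.AmpleLib Groth.Agent.EulerLib Groth.Agent.Models7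
open Groth.Agent.ExcC13 (subsingleton_H1_kernel)

namespace Groth.Agent.PointBlow14

variable {X : Scheme.{u}} (J : X.IdealSheafData)

variable {R : Type u} [CommRing R] [IsNoetherianRing R]

/-- The twist of a power of the ample module that is trivial on the exceptional curve and generated by
sections whose loci off the curve are affine. -/
theorem exists_degZero (p : X ⟶ Spec (CommRingCat.of R)) [IsProper p] {H : X.Modules} (hH : CohB1.IsAmple H)
    {k : Type u} [Field k] (e : CohB1.ProjSpace 1 k ≅ J.subscheme) (hJ : BlowUp.IsEffCartierIdeal J)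
    {d : ℕ} (hd1 : 1 ≤ d) (hd : P1Deg.HasDeg e ((Scheme.Modules.pullback J.subschemeι).obj (ClSub.idealMod J)) (d : ℤ))
    (M : X.Modules) (hM : ClSub.IsInverseOf M (ClSub.idealMod J)) :
    ∃ L : X.Modules, PicF.IsInvertible L ∧
        P1Deg.HasDeg e ((Scheme.Modules.pullback J.subschemeι).obj L) 0 ∧ Lipman24.Gl L ∧
        ∀ x ∉ (J.support : Set X), ∃ s : Γ(L, ⊤), x ∈ glocus L s ∧ IsAffineOpen (glocus L s) ∧
          Disjoint (glocus L s : Set X) (J.support : Set X) := by
  classical
  let _ : X.Over (Spec (CommRingCat.of R)) := ⟨p⟩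
  haveI : IsProper (X ↘ Spec (CommRingCat.of R)) := ‹_›
  haveI : IsLocallyNoetherian X := LocallyOfFiniteType.isLocallyNoetherian p
  haveI : CompactSpace X := QuasiCompact.compactSpace_of_compactSpace p
  let ι := J.subschemeι
  let I := ClSub.idealMod J
  have hI : PicF.IsInvertible I := FlatMor12.IdealModGen.isInvertible_idealMod J hJ
  have hHi := hH.1
  obtain ⟨tI⟩ := hM
  have hLE : PicF.IsInvertible M :=
    PicM.isInvertible_of_tensor hI (glocus_isInvertible_of_iso (tensorComm _ _ ≪≫ tI).symm isInvertible_structureModule)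
  have hLEd : P1Deg.HasDeg e ((Scheme.Modules.pullback ι).obj M) (-(d : ℤ)) := by
    obtain ⟨a⟩ := exists_pullTensorIso ι hI hLE
    obtain ⟨b⟩ := exists_pullStructureIso (X := X) ι
    exact P1Deg.HasDeg.inverse e (PicLoc.isInvertible_pullback ι hLE) (PicLoc.isInvertible_pullback ι hI)
      (tensorComm _ _ ≪≫ a.symm ≪≫ (Scheme.Modules.pullback ι).mapIso (tensorComm _ _ ≪≫ tI) ≪≫ b) hd
  obtain ⟨n₀, hn₀⟩ := Coherent.Serre.exists_subsingleton_HH_twist R hH _ (isCoh_structureModule X)
  obtain ⟨n₁, hn₁⟩ := eventually_globallyGenerated hH _ (isCoh_structureModule X)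
  let N := n₀ + n₁ + 1
  have hgg : ∀ n, N ≤ n → Curv2.IsGloballyGenerated (CohB1.tensorPow H n) := fun n hn =>
    globallyGenerated_of_iso (unitTensorIso _) (hn₁ n (by omega))
  obtain ⟨h₁, hh₁⟩ := P1Deg.exists_hasDeg e (PicLoc.isInvertible_pullback ι hHi)
  have hpowdeg : ∀ n, P1Deg.HasDeg e ((Scheme.Modules.pullback ι).obj (CohB1.tensorPow H n)) (n * h₁) := by
    intro n
    obtain ⟨t, -⟩ := exists_pullPowIso ι hHi n
    exact (hh₁.pow e (PicLoc.isInvertible_pullback ι hHi) n).of_iso e t.symm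
  have haff : ∀ n, 0 < n → ∀ t : Γ(CohB1.tensorPow H n, ⊤), IsAffineOpen (glocus _ t) := fun n hn t =>
    MorProj.isAffineOpen_glocus_of_universallyClosed p ((isAmple_pow_iff hHi n hn).2 hH) t
  have hpos : 0 < (N : ℤ) * h₁ :=
    (hpowdeg N).pos_of_affine J e (isInvertible_tensorPow hHi N)
      (Desc19b.exists_mem_glocus_of_gg (isInvertible_tensorPow hHi N) (hgg N le_rfl)) (haff N (by omega))
  have hh₁pos : 0 < h₁ := by
    by_contra hle
    exact absurd hpos (not_lt.2 (mul_nonpos_of_nonneg_of_nonpos (by omega) (by omega)))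
  obtain ⟨n, rfl⟩ : ∃ n : ℕ, h₁ = n := ⟨h₁.toNat, by omega⟩
  let r := n * N
  have hr0 : 0 < r := Nat.mul_pos (by omega) (by omega)
  let H' := CohB1.tensorPow H (d * N)
  have hH' : PicF.IsInvertible H' := isInvertible_tensorPow hHi _
  have hH'd : P1Deg.HasDeg e ((Scheme.Modules.pullback ι).obj H') ((d : ℤ) * r) := by
    have := hpowdeg (d * N)
    rwa [show ((d * N : ℕ) : ℤ) * (n : ℤ) = (d : ℤ) * r by simp only [r]; push_cast; ring] at this
  let Lf : ℕ → X.Modules := fun i => CohB1.tensorMod H' (CohB1.tensorPow M i)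
  have hLf : ∀ i, PicF.IsInvertible (Lf i) := fun i => isInvertible_tensorMod hH' (isInvertible_tensorPow hLE i)
  have hLfd : ∀ i : ℕ, P1Deg.HasDeg e ((Scheme.Modules.pullback ι).obj (Lf i)) ((d : ℤ) * ((r : ℤ) - i)) := by
    intro i
    obtain ⟨a⟩ := exists_pullTensorIso ι hH' (isInvertible_tensorPow hLE i)
    obtain ⟨b, -⟩ := exists_pullPowIso ι hLE i
    have h2 := ((hLEd.pow e (PicLoc.isInvertible_pullback ι hLE) i).of_iso e b.symm)
    have h3 := (hH'd.tensor e (PicLoc.isInvertible_pullback ι hH')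
      (PicLoc.isInvertible_pullback ι (isInvertible_tensorPow hLE i)) h2).of_iso e a.symm
    rwa [show (d : ℤ) * r + i * -(d : ℤ) = (d : ℤ) * ((r : ℤ) - i) by ring] at h3
  have hiso : ∀ i, Nonempty (CohB1.tensorMod I (Lf (i + 1)) ≅ Lf i) := by
    intro i
    have hP := isInvertible_tensorPow hLE i
    obtain ⟨a₁, -⟩ := exists_assocIso hH' hP hLE
    obtain ⟨a₂, -⟩ := exists_assocIso (hLf i) hLE hI
    exact ⟨tensorComm _ _ ≪≫ Coherent.tensorIso a₁.symm (Iso.refl I) ≪≫ a₂ ≪≫
      Coherent.tensorIso (Iso.refl (Lf i)) tI ≪≫ tensorComm _ _ ≪≫ unitTensorIso _⟩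
  have hH1 : ∀ i ≤ r, Subsingleton (Coh.HH X (Lf i) 1) := by
    intro i hi
    induction i with
    | zero =>
      let a : CohB1.tensorMod (Coh.structureModule X) H' ≅ Lf 0 := tensorComm _ _
      exact FlatMorStrat.subsingleton_HH_of_iso a 1 (hn₀ (d * N) (le_trans (by omega) (Nat.le_mul_of_pos_left N hd1)) 1 one_pos)
    | succ i ih =>
      obtain ⟨a⟩ := hiso i
      exact Resolve13.subsingleton_H1_of_restrict J (hLf (i + 1))
        (FlatMorStrat.subsingleton_HH_of_iso a.symm 1 (ih (by omega)))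
        ((hLfd (i + 1)).subsingleton_H1 e (PicLoc.isInvertible_pullback ι (hLf _))
          (by nlinarith [show ((i + 1 : ℕ) : ℤ) ≤ r by exact_mod_cast hi]))
  have hLd : P1Deg.HasDeg e ((Scheme.Modules.pullback ι).obj (Lf r)) 0 := by
    have := hLfd r
    rwa [sub_self, mul_zero] at this
  obtain ⟨r', hr'⟩ : ∃ r', r = r' + 1 := ⟨r - 1, by omega⟩
  obtain ⟨a⟩ := hiso r'
  rw [← hr'] at a
  have hsurj : Function.Surjective (pullSec ι (L := Lf r) (U := ⊤)) :=
    Lipman24.surjective_pullSec_of_H1 ι (subsingleton_H1_kernel J (hLf _)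
      (FlatMorStrat.subsingleton_HH_of_iso a.symm 1 (hH1 r' (by omega))))
  obtain ⟨u, hu⟩ := AbCubeLib.exists_section_of_effCartier J hJ hLE ⟨tI⟩
  have hoff : ∀ x ∉ (J.support : Set X), ∃ s : Γ(Lf r, ⊤), x ∈ glocus _ s ∧
      IsAffineOpen (glocus _ s) ∧ Disjoint (glocus _ s : Set X) (J.support : Set X) := by
    intro x hx
    obtain ⟨t, ht⟩ := Desc19b.exists_mem_glocus_of_gg hH' (hgg _ (Nat.le_mul_of_pos_left N hd1)) x
    have hg : glocus _ (tmul t (powSec u r)) = glocus H' t ⊓ glocus M u := by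
      have key : ∀ j : ℕ, 0 < j → glocus _ (tmul t (powSec u j)) = glocus H' t ⊓ glocus M u := by
        intro j hj
        obtain ⟨j', rfl⟩ : ∃ j', j = j' + 1 := ⟨j - 1, by omega⟩
        rw [glocus_tmul hH' (isInvertible_tensorPow hLE _), glocus_powSec hLE]
      exact key r hr0
    refine ⟨tmul t (powSec u r), ?_, ?_, ?_⟩
    · rw [hg]; exact ⟨ht, (hu ▸ hx : x ∈ (glocus M u : Set X))⟩
    · rw [hg, inf_comm]
      exact isAffineOpen_glocus_inf hLE u (haff (d * N) (Nat.mul_pos hd1 (by omega)) t)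
    · rw [hg, Opens.coe_inf, hu]
      exact Set.disjoint_left.2 fun z hz hz' => hz.2 hz'
  refine ⟨Lf r, hLf _, hLd, fun x => ?_, hoff⟩
  by_cases hx : x ∈ (J.support : Set X)
  · rw [← J.range_subschemeι] at hx
    obtain ⟨z, rfl⟩ := hx
    exact Lipman24.exists_mem_glocus_of_pullback ι (hLf _) hsurj (hLd.gl e le_rfl) z
  · obtain ⟨s, hs, -⟩ := hoff x hx
    exact ⟨s, hs⟩

/-- **Castelnuovo**: a projective line with conormal degree `d > 0` contracts to a normal point with
cotangent space of dimension `d + 1`. -/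
theorem exists_contraction {X : Scheme.{u}} [IsIntegral X] (p : X ⟶ Spec (CommRingCat.of R)) [IsProper p]
    (hnor : ∀ x : X, IsIntegrallyClosed (X.presheaf.stalk x))
    {H : X.Modules}
    (hH : CohB1.IsAmple H) (J : X.IdealSheafData) (hJ : BlowUp.IsEffCartierIdeal J) {k : Type u} [Field k]
    (e : CohB1.ProjSpace 1 k ≅ J.subscheme) (M : X.Modules) (hM : ClSub.IsInverseOf M (ClSub.idealMod J)) {d : ℕ} (hd1 : 1 ≤ d)
    (hd : P1Deg.HasDeg e ((Scheme.Modules.pullback J.subschemeι).obj (ClSub.idealMod J)) (d : ℤ)) :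
    ∃ (Y : Scheme.{u}) (q : Y ⟶ Spec (CommRingCat.of R)) (g : X ⟶ Y) (y : Y) (hy : IsClosed ({y} : Set Y)),
      g ≫ q = p ∧ IsIntegral Y ∧ (∀ z : Y, IsIntegrallyClosed (Y.presheaf.stalk z)) ∧ IsProper q ∧
      Neron.IsProjectiveOver R (Over.mk q) ∧ Function.Surjective g.base ∧ IsProper g ∧
      g.base ⁻¹' {y} = (J.support : Set X) ∧ IsIso (g ∣_ (⟨{y}ᶜ, hy.isOpen_compl⟩ : Y.Opens)) := by
  classical
  haveI : IsLocallyNoetherian X := LocallyOfFiniteType.isLocallyNoetherian p
  haveI : CompactSpace X := QuasiCompact.compactSpace_of_compactSpace p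
  haveI : IsNoetherian X := {}
  obtain ⟨L, hL, hLd, hgl, hoff⟩ := exists_degZero J p hH e hJ hd1 hd M hM
  -- finitely many sections, including the affine ones
  let good : X → Γ(L, ⊤) := fun x => if hx : x ∈ (J.support : Set X) then (hgl x).choose else (hoff x hx).choose
  have hgood : ∀ x, x ∈ glocus L (good x) := fun x => by
    by_cases hx : x ∈ (J.support : Set X)
    · simp only [good, dif_pos hx]; exact (hgl x).choose_spec
    · simp only [good, dif_neg hx]; exact (hoff x hx).choose_spec.1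
  let Uc : X.Opens := ⟨(J.support : Set X)ᶜ, J.support.isClosed.isOpen_compl⟩
  obtain ⟨t₁, ht₁⟩ := isCompact_univ.elim_finite_subcover (fun x : X => (glocus L (good x) : Set X))
    (fun x => (glocus L (good x)).2) fun x _ => Set.mem_iUnion.2 ⟨x, hgood x⟩
  obtain ⟨t₂, ht₂⟩ := (NoetherianSpace.isCompact (Uc : Set X)).elim_finite_subcover
    (fun x : Uc => (glocus L (good x.1) : Set X)) (fun x => (glocus L (good x.1)).2)
    fun x hx => Set.mem_iUnion.2 ⟨⟨x, hx⟩, hgood x⟩
  let S : Finset Γ(L, ⊤) := t₁.image good ∪ t₂.image fun x => good x.1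
  let σ : Fin (S.card + 1) → Γ(L, ⊤) := Fin.cons 0 fun i => (S.equivFin.symm i).1
  have hσS : ∀ s ∈ S, ∃ i, σ i = s := fun s hs => ⟨(S.equivFin ⟨s, hs⟩).succ, by simp [σ]⟩
  have hcov : ∀ x : X, ∃ i, x ∈ glocus L (σ i) := fun x => by
    obtain ⟨z, hz, hxz⟩ := Set.mem_iUnion₂.1 (ht₁ (Set.mem_univ x))
    obtain ⟨i, hi⟩ := hσS _ (Finset.mem_union_left _ (Finset.mem_image_of_mem good hz))
    exact ⟨i, hi ▸ hxz⟩
  have hcov' : ∀ x ∉ (J.support : Set X), ∃ i, x ∈ glocus L (σ i) ∧ IsAffineOpen (glocus L (σ i)) ∧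
      Disjoint (glocus L (σ i) : Set X) (J.support : Set X) := fun x hx => by
    obtain ⟨z, hz, hxz⟩ := Set.mem_iUnion₂.1 (ht₂ hx)
    obtain ⟨i, hi⟩ := hσS _ (Finset.mem_union_right _ (Finset.mem_image_of_mem (fun x : Uc => good x.1) hz))
    have hzS : z.1 ∉ (J.support : Set X) := z.2
    refine ⟨i, hi ▸ hxz, ?_⟩
    rw [hi]
    simp only [good, dif_neg hzS]
    exact (hoff z.1 hzS).choose_spec.2
  obtain ⟨φ, hφ, τ, hτ⟩ := UPLib.exists_hom_projSpace S.card p hL σ hcov
  let n := S.card
  have hσ : ∀ i, φ ⁻¹ᵁ PnEmb.chartOpen n R i = glocus L (σ i) := fun i => PnEmb.preimage_chartOpen φ τ hτ i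
  haveI : IsProper (CohB1.ProjSpace.toSpec n R) := Coherent.isProper_projSpace_toSpec n R
  haveI : IsLocallyNoetherian (CohB1.ProjSpace n R) :=
    LocallyOfFiniteType.isLocallyNoetherian (CohB1.ProjSpace.toSpec n R)
  haveI : IsProper (φ ≫ CohB1.ProjSpace.toSpec n R) := by rw [hφ]; infer_instance
  haveI : IsProper φ := IsProper.of_comp φ (CohB1.ProjSpace.toSpec n R)
  -- Stein factorisation
  have hXn : Pi1.IsNormalScheme X := fun x => ⟨inferInstance, hnor x⟩
  let f := φ.toNormalization
  let g := φ.fromNormalization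
  have hfg : f ≫ g = φ := φ.toNormalization_fromNormalization
  haveI : IsProper f := Coherent.isProper_toNormalization φ
  haveI : IsFinite g := Coherent.isFinite_fromNormalization_of_isProper φ
  haveI : IsLocallyNoetherian φ.normalization := Coherent.isLocallyNoetherian_normalization φ
  have hsurj : Function.Surjective f := Coherent.surjective_toNormalization φ
  have happ : ∀ U, IsIso (f.app U) := Coherent.isIso_toNormalization_app φ
  haveI : IrreducibleSpace φ.normalization := by
    haveI : Nonempty φ.normalization := ⟨f (genericPoint X)⟩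
    have h := (IrreducibleSpace.isIrreducible_univ X).image f.base f.continuous.continuousOn
    rw [Set.image_univ, hsurj.range_eq] at h
    exact { isPreirreducible_univ := h.2, toNonempty := inferInstance }
  have hYn : Pi1.IsNormalScheme φ.normalization := (CAlgSmall.NormalNormalization.main φ hXn
    fun x => ⟨Set.univ, Filter.univ_mem, by
      haveI := (NoetherianSpace.finite_irreducibleComponents (α := X)).to_subtype
      exact Set.toFinite _⟩).1
  haveI : IsReduced φ.normalization :=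
    haveI : ∀ y : φ.normalization, _root_.IsReduced (φ.normalization.presheaf.stalk y) := fun y => by
      haveI := (hYn y).1; infer_instance
    isReduced_of_isReduced_stalk _
  haveI : IsIntegral φ.normalization := isIntegral_of_irreducibleSpace_of_isReduced _
  let q := g ≫ CohB1.ProjSpace.toSpec n R
  have hfq : f ≫ q = p := by rw [← Category.assoc, hfg, hφ]
  haveI : IsProper q := inferInstanceAs (IsProper (g ≫ CohB1.ProjSpace.toSpec n R))
  have hgφ : ∀ x, g (f x) = φ x := fun x => congrArg (fun k : X ⟶ CohB1.ProjSpace n R => k x) hfg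
  -- the line goes to a point
  haveI : IsIntegral J.subscheme := IsIntegral.of_isIso e.hom
  obtain ⟨ψ⟩ := SplitP1.nonempty_twist_zero k
  obtain ⟨θ⟩ := hLd.iso_pullback e
  obtain ⟨θ₀⟩ := exists_pullStructureIso (X := CohB1.ProjSpace 1 k) e.inv
  have h1 : (φ.base '' Set.range J.subschemeι.base).Subsingleton :=
    subsingleton_range_of_trivial φ hL σ hcov hσ J.subschemeι (P1Deg.isField_sections e)
      (θ.symm ≪≫ (Scheme.Modules.pullback e.inv).mapIso ψ ≪≫ θ₀)
  let z₀ : X := J.subschemeι (genericPoint J.subscheme)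
  let y := f z₀
  have hsub : f.base '' Set.range J.subschemeι.base ⊆ {y} := by
    have h2 : _root_.IsPreconnected (f.base '' Set.range J.subschemeι.base) :=
      (isPreconnected_range J.subschemeι.continuous).image _ f.continuous.continuousOn
    have hsub' : f.base '' Set.range J.subschemeι.base ⊆ g.base ⁻¹' {φ z₀} := by
      rintro _ ⟨x, hx, rfl⟩
      show g (f x) = φ z₀
      rw [hgφ]
      exact h1 ⟨x, hx, rfl⟩ ⟨_, ⟨_, rfl⟩, rfl⟩
    haveI : DiscreteTopology (f.base '' Set.range J.subschemeι.base : Set φ.normalization) :=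
      isDiscrete_iff_discreteTopology.1 ((g.isDiscrete_preimage_singleton (φ z₀)).mono hsub')
    haveI : PreconnectedSpace (f.base '' Set.range J.subschemeι.base : Set φ.normalization) :=
      Subtype.preconnectedSpace h2
    haveI : Subsingleton (f.base '' Set.range J.subschemeι.base : Set φ.normalization) :=
      PreconnectedSpace.trivial_of_discrete
    intro a ha
    exact Set.mem_singleton_iff.2 (congrArg Subtype.val (Subsingleton.elim
      (⟨a, ha⟩ : (f.base '' Set.range J.subschemeι.base : Set φ.normalization)) ⟨y, ⟨_, ⟨_, rfl⟩, rfl⟩⟩))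
  have hrange : Set.range J.subschemeι.base = (J.support : Set X) := J.range_subschemeι
  rw [hrange] at hsub
  have hz₀ : z₀ ∈ (J.support : Set X) := hrange ▸ Set.mem_range_self _
  have himg : f.base '' (J.support : Set X) = {y} :=
    hsub.antisymm (Set.singleton_subset_iff.2 ⟨z₀, hz₀, rfl⟩)
  have hy : IsClosed ({y} : Set φ.normalization) := himg ▸ f.isClosedMap _ J.support.isClosed
  -- fibres away from the line are finite
  have hout : ∀ x ∉ (J.support : Set X), (φ.base ⁻¹' {φ x}).Finite ∧ φ.base ⁻¹' {φ x} ⊆ (J.support : Set X)ᶜ := by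
    intro x hx
    obtain ⟨i, hxi, haff, hdis⟩ := hcov' x hx
    have hxw : φ x ∈ PnEmb.chartOpen n R i := by
      have : x ∈ φ ⁻¹ᵁ PnEmb.chartOpen n R i := (hσ i).symm ▸ hxi
      exact this
    refine ⟨finite_preimage_of_isAffineOpen φ i ((hσ i).symm ▸ haff) hxw, fun z hz hzJ => ?_⟩
    refine Set.disjoint_left.1 hdis ?_ hzJ
    show z ∈ glocus L (σ i)
    rw [← hσ i]
    show φ z ∈ PnEmb.chartOpen n R i
    rwa [Set.mem_singleton_iff.1 hz]
  have hpre : f.base ⁻¹' {y} = (J.support : Set X) := by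
    refine Set.Subset.antisymm (fun x hx => ?_) fun x hx => hsub ⟨x, hx, rfl⟩
    by_contra hxJ
    refine (hout x hxJ).2 (show φ z₀ = φ x from ?_) hz₀
    rw [← hgφ, ← hgφ, Set.mem_singleton_iff.1 hx]
  have hfin : ∀ w, w ≠ y → (f.base ⁻¹' {w}).Finite := by
    intro w hw
    obtain ⟨x, rfl⟩ := hsurj w
    have hxJ : x ∉ (J.support : Set X) := fun h => hw (Set.mem_singleton_iff.1 (hpre.ge h))
    refine (hout x hxJ).1.subset fun z hz => ?_
    show φ z = φ x
    rw [← hgφ, ← hgφ, Set.mem_singleton_iff.1 hz]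
  haveI : IsProper (Over.mk q).hom := ‹IsProper q›
  refine ⟨φ.normalization, q, f, y, hy, hfq, inferInstance, fun z => (hYn z).2, inferInstance,
    isProjectiveOver_of_finite (Y := Over.mk q) g, hsurj, inferInstance, hpre, ?_⟩
  · exact isIso_morphismRestrict_of_finite_fibres f happ _ fun w hw => hfin w hw

end Groth.Agent.PointBlow14
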