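import Groth.Agent.Surf15.Config
import Groth.Agent.Surf15.Fibre
import Groth.Agent.SDiv28.CartierPart
import Groth.Agent.ProjLib.BlowUpBasics

/-!
# Divisors on a regular surface through stalks at generic points of curves
-/

set_option autoImplicit false
set_option backward.isDefEq.respectTransparency.types false
set_option linter.style.haveILetI false

universe u

open CategoryTheory CategoryTheory.Limits AlgebraicGeometry TopologicalSpace
open Groth.Agent.Coherent Groth.Agent.EulerLib Groth.Agent.Surf15 Groth.Agent.SDiv28.CartierPart Groth.Agent.Misc15.DivDescent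

namespace Groth.Agent.PointBlow14

/-- Divisors on a regular surface supported on a finite set of curves. -/
theorem exists_fun {Y : Scheme.{u}} (k : Type u) [Field k] [Y.Over (Spec (CommRingCat.of k))]
    [IsProper (Y ↘ Spec (CommRingCat.of k))] [IsIntegral Y]
    (hY : topologicalKrullDim Y = ((2 : ℕ) : WithBot ℕ∞)) (hreg : ∀ y : Y, IsRegularLocalRing (Y.presheaf.stalk y))
    (S : Finset Y.IdealSheafData) (hS : ∀ C ∈ S, IsCrv C)
    {Z : Y.IdealSheafData} (hZ : BlowUp.IsEffCartierIdeal Z) (hc : ∀ C, IsCrv C → Z ≤ C → C ∈ S) :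
    ∃ a : Y.IdealSheafData → ℕ, Z = ∏ C ∈ S, C ^ a C := by
  classical
  by_cases h0 : Z = ⊤
  · exact ⟨0, by rw [h0, Finset.prod_eq_one (fun C _ => by exact pow_zero C), Scheme.IdealSheafData.one_eq_top]⟩
  obtain ⟨a, ha, -⟩ := exists_prod_eq k hY hreg (fun C : S => C.1)
    (fun C => (hS C.1 C.2).isEffCartier k hY hreg) hZ h0 (fun C hC hle => ⟨⟨C, hc C hC hle⟩, rfl⟩)
  refine ⟨fun C => if h : C ∈ S then a ⟨C, h⟩ else 0, ?_⟩
  rw [ha, ← Finset.prod_attach S fun C => C ^ (if h : C ∈ S then a ⟨C, h⟩ else 0)]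
  exact Finset.prod_congr rfl fun C _ => by simp [C.2]

/-- The stalk of such a product at the generic point of one of the curves. -/
theorem stk_prod_gen {Y : Scheme.{u}} (k : Type u) [Field k] [Y.Over (Spec (CommRingCat.of k))]
    [IsProper (Y ↘ Spec (CommRingCat.of k))] [IsIntegral Y]
    (hY : topologicalKrullDim Y = ((2 : ℕ) : WithBot ℕ∞)) (hreg : ∀ y : Y, IsRegularLocalRing (Y.presheaf.stalk y))
    (S : Finset Y.IdealSheafData) (hS : ∀ C ∈ S, IsCrv C) (a : Y.IdealSheafData → ℕ)
    {C : Y.IdealSheafData} [IsIntegral C.subscheme] (hC : C ∈ S) :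
    stk (∏ B ∈ S, B ^ a B) (gen C) = IsLocalRing.maximalIdeal (Y.presheaf.stalk (gen C)) ^ a C := by
  classical
  haveI := isNoetherian_of_proper k (X := Y)
  rw [stk_prod, Finset.prod_eq_single C, stk_pow, stk_gen ((hS C hC).isEffCartier k hY hreg)]
  · intro B hB hne
    rw [stk_pow, stk_eq_top, Ideal.top_pow, Ideal.one_eq_top]
    intro hm
    haveI := (hS B hB).1
    have hle : B ≤ C := le_of_support_subset (by
      rw [support_eq_closure_gen C]
      exact B.support.isClosed.closure_subset_iff.2 (Set.singleton_subset_iff.2 hm))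
    obtain ⟨_, he⟩ := exists_eq_of_crv k (fun _ : Unit => B) (fun _ => hS B hB) (hS C hC) hle
      fun x hx => Set.mem_iUnion.2 ⟨(), hx⟩
    exact hne he.symm
  · exact fun h => absurd hC h

theorem maximalIdeal_pow_inj {R : Type*} [CommRing R] [IsDomain R] [IsDiscreteValuationRing R] {a b : ℕ}
    (h : IsLocalRing.maximalIdeal R ^ a = IsLocalRing.maximalIdeal R ^ b) : a = b := by
  exact (Ideal.pow_right_strictAnti (IsLocalRing.maximalIdeal R) (IsDiscreteValuationRing.not_a_field R)
    (IsLocalRing.maximalIdeal.isMaximal R).ne_top).injective h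

theorem isLocPrincipal_comap {X Y : Scheme.{u}} {I : X.IdealSheafData} (hI : BlowUp.IsEffCartierIdeal I)
    (f : Y ⟶ X) : Curv2.IsLocPrincipal (I.comap f) := fun y _ => by
  obtain ⟨U, hxU, g, -, hg⟩ := hI (f y)
  obtain ⟨_, ⟨V, hV, rfl⟩, hyV, hVU⟩ :=
    Y.isBasis_affineOpens.exists_subset_of_mem_open (show y ∈ f ⁻¹ᵁ U.1 from hxU) (f ⁻¹ᵁ U.1).isOpen
  exact ⟨⟨V, hV⟩, hyV, _, by rw [ProjLib.comap_ideal_eq I f U ⟨V, hV⟩ hVU, hg, Ideal.map_span, Set.image_singleton]⟩

end Groth.Agent.PointBlow14
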