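import Groth.Agent.Surf15.NumBridge
import Groth.Agent.NumTriv23.Basic

/-! Classes in the numerical group of a surface and the intersection pairing. -/

set_option autoImplicit false
set_option linter.style.haveILetI false
set_option backward.isDefEq.respectTransparency.types false

universe u

open CategoryTheory CategoryTheory.Limits AlgebraicGeometry Opposite TopologicalSpace
open Groth.Agent.Coherent Groth.Agent.PicLib Groth.Agent.AmpleLib Groth.Agent.EulerLib
open Groth.Agent.DimLib Groth.Agent.AssSch12 Groth.Agent.Surf15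

namespace Groth.Agent.PointBlow14

variable {X : Scheme.{u}} (k : Type u) [Field k] [X.Over (Spec (CommRingCat.of k))] [PicGrp.Law X]

/-- The isomorphism class attached to an element of the Picard set. -/
noncomputable def toInv (c : PicLoc.PicSet X) : InvCl X :=
  InvCl.mk c.2.choose c.2.choose_spec.2

theorem toInv_cls {L : X.Modules} (hL : PicF.IsInvertible L) : toInv (PicGrp.cls L hL) = InvCl.mk L hL := by
  have h := (PicGrp.cls L hL).2.choose_spec
  exact InvCl.mk_eq h.2 hL ((PicGrp.cls_eq_cls_iff h.2 hL).1 (Subtype.ext h.1)).some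

theorem toInv_mul (c d : PicLoc.PicSet X) : toInv (c * d) = toInv c * toInv d := by
  obtain ⟨L, hL, rfl⟩ := PicGrp.exists_eq_cls c
  obtain ⟨M, hM, rfl⟩ := PicGrp.exists_eq_cls d
  rw [toInv_cls, toInv_cls, InvCl.mk_mul, ← toInv_cls]
  exact congrArg toInv (Subtype.ext (PicGrp.cls_mul_cls_val hL hM))

/-- The numerical class of an isomorphism class of invertible modules. -/
noncomputable def cZ (a : InvCl X) : NumR.N1 k X :=
  Quotient.liftOn a (fun L => NumR.cl k X L.1 L.2) fun L M h => by
    show NumR.cl k X L.1 L.2 = NumR.cl k X M.1 M.2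
    rw [NumR.cl, NumR.cl, (PicGrp.cls_eq_cls_iff L.2 M.2).2 h]

theorem cZ_mk {L : X.Modules} (hL : PicF.IsInvertible L) : cZ k (InvCl.mk L hL) = NumR.cl k X L hL := rfl

theorem cZ_mul (a b : InvCl X) : cZ k (a * b) = cZ k a + cZ k b := by
  obtain ⟨L, hL, rfl⟩ := InvCl.exists_rep a
  obtain ⟨M, hM, rfl⟩ := InvCl.exists_rep b
  rw [InvCl.mk_mul, cZ_mk, cZ_mk, cZ_mk, NumR.cl, NumR.cl, NumR.cl, ← map_add, ← ofMul_mul]
  exact congrArg _ (congrArg _ (Subtype.ext (PicGrp.cls_mul_cls_val hL hM).symm))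

theorem cZ_one : cZ k (1 : InvCl X) = 0 := by
  have h := cZ_mul k (1 : InvCl X) 1
  rw [one_mul] at h
  simpa using h

theorem cZ_pow (a : InvCl X) : ∀ n : ℕ, cZ k (a ^ n) = (n : ℤ) • cZ k a
  | 0 => by rw [pow_zero, cZ_one, Nat.cast_zero, zero_smul]
  | n + 1 => by rw [pow_succ, cZ_mul, cZ_pow a n, Nat.cast_succ, add_smul, one_smul]

theorem cZ_inv {a b : InvCl X} (h : a * b = 1) : cZ k b = - cZ k a := by
  have e := cZ_mul k a b
  rw [h, cZ_one] at e
  exact eq_neg_of_add_eq_zero_right e.symm

theorem cZ_surjective (x : NumR.N1 k X) : ∃ a, cZ k a = x := by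
  obtain ⟨L, hL, rfl⟩ := NumR.exists_eq_cl x
  exact ⟨InvCl.mk L hL, rfl⟩

variable [IsProper (X ↘ Spec (CommRingCat.of k))]

include k in
/-- Numerically trivial classes are orthogonal to everything. -/
theorem B_eq_zero_of_numEquiv (hX : topologicalKrullDim X ≤ ((2 : ℕ) : WithBot ℕ∞)) {L : X.Modules}
    (hL : PicF.IsInvertible L) (h : Pic13.IsNumEquivZero k X L) (b : InvCl X) : B k (InvCl.mk L hL) b = 0 := by
  haveI := isNoetherian_of_proper (X := X) k
  rw [B_eq_interDeg, EulerLib.interDeg_cons_congr k (NumTriv23.isNum_of_isNumEquivZero k hL h) 1 _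
    (Coherent.isCoh_structureModule X) (le_trans (topologicalKrullDim_subspace_le X _) hX) (Fin.cons b Fin.elim0),
    ← B_eq_interDeg, B_one_left k hX]

include k in
theorem B_eq_zero_of_cZ (hX : topologicalKrullDim X ≤ ((2 : ℕ) : WithBot ℕ∞)) {a : InvCl X}
    (h : cZ k a = 0) (b : InvCl X) : B k a b = 0 := by
  let φ : PicLoc.PicSet X →* Multiplicative ℤ := MonoidHom.mk' (fun c => Multiplicative.ofAdd (B k (toInv c) b))
    fun c d => by rw [toInv_mul, B_mul_left k hX, ofAdd_add]
  obtain ⟨L, hL, rfl⟩ := InvCl.exists_rep a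
  have hmem : PicGrp.cls L hL ∈ PicGrp.subCl (Y := X) (Pic13.IsNumEquivZero k X) :=
    (QuotientGroup.eq_one_iff _).1 h
  have hker : PicGrp.subCl (Y := X) (Pic13.IsNumEquivZero k X) ≤ φ.ker := (Subgroup.closure_le _).2 (by
    rintro c ⟨M, hM, hP, rfl⟩
    show Multiplicative.ofAdd (B k (toInv (PicGrp.cls M hM)) b) = 1
    rw [toInv_cls, B_eq_zero_of_numEquiv k hX hM hP, ofAdd_zero])
  have := congrArg Multiplicative.toAdd (show Multiplicative.ofAdd (B k (toInv (PicGrp.cls L hL)) b) = 1 from hker hmem)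
  rw [toInv_cls] at this
  simpa using this

include k in
/-- A class pairing to zero with everything on a regular surface is numerically zero. -/
theorem cZ_eq_zero [IsIntegral X] (hX : topologicalKrullDim X = ((2 : ℕ) : WithBot ℕ∞))
    (hreg : ∀ x : X, IsRegularLocalRing (X.presheaf.stalk x)) {a : InvCl X} (h : ∀ b, B k a b = 0) :
    cZ k a = 0 := by
  haveI := isNoetherian_of_proper (X := X) k
  haveI := isSeparated_of_proper (X := X) k
  obtain ⟨L, hL, rfl⟩ := InvCl.exists_rep a
  rw [cZ_mk, NumR.cl_eq_zero hL]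
  intro Y i _ _ hY
  letI : Y.Over (Spec (CommRingCat.of k)) := ⟨i ≫ (X ↘ Spec (CommRingCat.of k))⟩
  haveI : IsProper (Y ↘ Spec (CommRingCat.of k)) :=
    inferInstanceAs (IsProper (i ≫ (X ↘ Spec (CommRingCat.of k))))
  haveI := isNoetherian_of_proper (X := Y) k
  have hLY := PicLoc.isInvertible_pullback i hL
  let L' := (Scheme.Modules.pullback i).obj L
  have hY' : topologicalKrullDim Y ≤ ((1 : ℕ) : WithBot ℕ∞) := hY.le.trans (by exact_mod_cast le_rfl)
  rw [Pic13.curveDeg]
  show FGA.eulerCharLE k Y L' 1 - FGA.eulerCharLE k Y (Coh.structureModule Y) 1 = 0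
  rw [eulerCharLE_eq k _ (CurveRR24.isCoh_of_isInvertible k hLY).1 hY',
    eulerCharLE_eq k _ (isCoh_structureModule Y).1 hY']
  let η : X := i (genericPoint Y)
  have hrange : Set.range i = closure {η} := by
    have h1 : IsGenericPoint η (closure (i '' Set.univ)) := by
      have := (genericPoint_spec Y).image i.continuous
      rwa [Set.image_univ] at this ⊢
    rw [Set.image_univ, i.isClosedEmbedding.isClosed_range.closure_eq] at h1
    exact h1.def.symm
  have hsub : CohB1.support ((Coh.push i).obj (Coh.structureModule Y)) ⊆ closure {η} :=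
    (support_push_subset i _).trans hrange.le
  have hdη : topologicalKrullDim (closure {η} : Set X) = ((1 : ℕ) : WithBot ℕ∞) := by
    rw [← hrange, ← i.isClosedEmbedding.isEmbedding.toHomeomorph.isHomeomorph.topologicalKrullDim_eq, hY]
    rfl
  have hM : Coh.IsCoh ((Coh.push i).obj (Coh.structureModule Y)) :=
    isCoh_push_finite i (isCoh_structureModule Y)
  obtain ⟨m, hm⟩ := exists_deg_eq_mult k hdη.le hM hsub
  have hC : IsIntegral (clI η).subscheme := VarietyLib.isIntegral_clI η
  have hCd : topologicalKrullDim ((clI η).support : Set X) = ((1 : ℕ) : WithBot ℕ∞) := by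
    rw [VarietyLib.support_clI]; exact hdη
  have hCe := isEffCartier_curve k hX hreg (clI η) hCd
  have h0 : deg k (clM η) (InvCl.mk L hL) = 0 := by
    have := deg_quotMod k hCe (InvCl.mk L hL)
    rw [B_comm k, h, neg_zero] at this
    exact this
  have hz := hm (InvCl.mk L hL)
  rw [h0, mul_zero, deg_mk] at hz
  have hLF : FlatMod.IsFinLocFree L := fun x =>
    let ⟨U, hx, e⟩ := isFinLocFreeOfRank_one hL x; ⟨U, 1, hx, e⟩
  have e : CohB1.tensorMod ((Coh.push i).obj (Coh.structureModule Y)) L ≅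
      (Coh.push i).obj (CohB1.tensorMod (Coh.structureModule Y) L') :=
    AmpleLib.tensorComm _ _ ≪≫ (projIso (f := i) hLF).app _ ≪≫
      (Scheme.Modules.pushforward i).mapIso (AmpleLib.tensorComm _ _)
  have hO : Coh.IsCoh (Coh.structureModule Y) := isCoh_structureModule _
  haveI : Coh.IsQCoh (CohB1.tensorMod (Coh.structureModule Y) L') := (isCoh_twist hLY hO).1
  haveI : Coh.IsQCoh (Coh.structureModule Y) := hO.1
  rw [euler_congr k Y (unitTensorIso L').symm, AbCubeLib.euler_push k i rfl, AbCubeLib.euler_push k i rfl,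
    ← euler_congr k X e]
  exact hz


end Groth.Agent.PointBlow14
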