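import Groth.Agent.BlowUpCoh.IdealPush

/-!
# An ideal pulling back into a power of the exceptional ideal lies in the power of the centre
-/

set_option autoImplicit false
set_option backward.isDefEq.respectTransparency.types false
set_option linter.style.haveILetI false

universe u

open CategoryTheory CategoryTheory.Limits AlgebraicGeometry TopologicalSpace Opposite
open Groth.Agent.Coherent Groth.Agent.PicLib Groth.Agent.AmpleLib Groth.Agent.BlowUpCoh

namespace Groth.Agent.PointBlow14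

variable {X X' : Scheme.{u}} {I : X.IdealSheafData} {b : X' ⟶ X} (hb : BlowUp.IsBlowUp b I) {k : ℕ}
  (hI : KoszulBasis I k)

include hb hI in
theorem le_pow_of_comap_le {A : X.IdealSheafData} {m : ℕ} (h : A.comap b ≤ (I.comap b) ^ m) : A ≤ I ^ m := by
  let B : X.Opens → Prop := fun V => ∃ (hV : IsAffineOpen V) (n : ℕ) (f : Fin (n + 1) → Γ(X, V)),
    k ≤ n ∧ I.ideal ⟨V, hV⟩ = Ideal.span (Set.range f) ∧ CAlgH.KoszulRegular.KReg f
  refine Scheme.IdealSheafData.le_of_iSup_eq_top (ι := {V : X.Opens // B V}) (fun V => ⟨V.1, V.2.1⟩)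
    (top_le_iff.1 fun x _ => ?_) fun V => ?_
  · obtain ⟨V, hV, hxV, -⟩ := Opens.isBasis_iff_nbhd.mp hI (show x ∈ (⊤ : X.Opens) from trivial)
    exact Opens.mem_iSup.2 ⟨⟨V, hV⟩, hxV⟩
  obtain ⟨V, hVa, n, f, hkn, hf, hk⟩ := V
  intro r hr
  rw [Scheme.IdealSheafData.ideal_pow, Pi.pow_apply]
  show r ∈ I.ideal ⟨V, hVa⟩ ^ m
  haveI : IsAffine (V : Scheme.{u}) := hVa
  obtain ⟨f', hf', hk', hsep⟩ := exists_restrict_data hb hI hVa hf hk
  let U : X'.Opens := b ⁻¹ᵁ V
  let e : Γ(X, V) ≃+* Γ((V : Scheme.{u}), ⊤) := V.topIso.symm.commRingCatIsoToRingEquiv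
  have key := mem_pow_of_section (b ∣_ V) f' (Groth.Agent.BlowUpLib.isBlowUp_restrict hb V) hf' hk' (m := m)
    (r := e r) fun W => by
      have hW' : U.ι ''ᵁ W.1 ≤ U := (U.ι.image_mono le_top).trans (Scheme.Opens.ι_image_top U).le
      have h1 : (b.appLE V (U.ι ''ᵁ W.1) hW').hom r ∈ ((I.comap b).ideal (imageAff U W)) ^ m := by
        have h2 := h (imageAff U W)
        rw [Scheme.IdealSheafData.ideal_pow, Pi.pow_apply] at h2
        refine h2 ?_
        rw [ProjLib.comap_ideal_eq A b ⟨V, hVa⟩ (imageAff U W) hW']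
        exact Ideal.mem_map_of_mem _ hr
      rw [Scheme.IdealSheafData.ideal_pow, Pi.pow_apply, comap_restrict V, ideal_comap_ι U W]
      refine Eq.mp (congrArg (· ∈ _) ?_) h1
      refine ConcreteCategory.congr_hom (?_ : b.appLE V (U.ι ''ᵁ W.1) hW' =
        V.topIso.inv ≫ (b ∣_ V).appLE ⊤ W.1 le_top) r
      simp [morphismRestrict_appLE, Scheme.Opens.topIso_inv, Scheme.Hom.appLE]
      erw [Category.assoc, b.naturality_assoc, ← Functor.map_comp, ← Functor.map_comp]
      rfl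
  refine (congrArg (r ∈ · ^ m) hf).mpr ?_
  have hspan' : Ideal.span (Set.range f') = (Ideal.span (Set.range f)).map e.toRingHom := by
    rw [← hf', ← hf]
    have hle : (⊤ : (V : Scheme.{u}).Opens) ≤ V.ι ⁻¹ᵁ V := (Scheme.Opens.ι_preimage_self V).ge
    rw [ProjLib.comap_ideal_eq I V.ι ⟨V, hVa⟩ (topAff (V : Scheme.{u})) hle]
    have he : (V.ι.appLE V ⊤ hle).hom = e.toRingHom := by
      refine congrArg CommRingCat.Hom.hom (?_ : V.ι.appLE V ⊤ hle = V.topIso.inv)
      simp [Scheme.Hom.appLE, Scheme.Opens.topIso_inv]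
      erw [← Functor.map_comp]
      rfl
    exact congrArg (fun φ => Ideal.map φ (I.ideal ⟨V, hVa⟩)) he
  rw [hspan', ← Ideal.map_pow] at key
  obtain ⟨r', hr', hrr⟩ := (Ideal.mem_map_iff_of_surjective _ e.surjective).1 key
  exact e.injective hrr ▸ hr'

end Groth.Agent.PointBlow14
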